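import Mathlib

/-!
# Presheaves of modules with values one universe up have enough injectives
-/

set_option autoImplicit false
set_option linter.style.haveILetI false

universe v u

open CategoryTheory CategoryTheory.Limits Opposite

namespace MVFLib

variable {C : Type (u + 1)} [Category.{u} C] (R : Cᵒᵖ ⥤ RingCat.{u})

/-- The underlying module of the free presheaf of modules on `X`. -/
abbrev FreeAt (X Y : Cᵒᵖ) : Type (u + 1) := ULift.{u + 1} ((X ⟶ Y) →₀ R.obj Y)

variable {R}

/-- The transition map of the free presheaf of modules. -/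
noncomputable def freeAtMap (X : Cᵒᵖ) {Y Z : Cᵒᵖ} (g : Y ⟶ Z) :
    FreeAt R X Y →ₛₗ[(R.map g).hom] FreeAt R X Z where
  toFun x := ULift.up (Finsupp.mapDomain (fun f => f ≫ g)
    (x.down.mapRange (R.map g) (map_zero (R.map g).hom)))
  map_add' x y := by
    ext1
    simp only [ULift.add_down]
    rw [Finsupp.mapRange_add (fun a b => map_add (R.map g).hom a b), Finsupp.mapDomain_add]
  map_smul' r x := by
    ext1
    simp only [ULift.smul_down]
    rw [← Finsupp.mapDomain_smul]
    congr 1
    ext f
    simp

variable (R)

/-- The free presheaf of modules generated by one section over `X`. -/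
noncomputable def freeAt (X : Cᵒᵖ) : PresheafOfModules.{u + 1} R where
  obj Y := ModuleCat.of (R.obj Y) (FreeAt R X Y)
  map {Y Z} g := ModuleCat.ofHom (Y := (ModuleCat.restrictScalars (R.map g).hom).obj
      (ModuleCat.of (R.obj Z) (FreeAt R X Z)))
    { toFun := freeAtMap X g
      map_add' := map_add _
      map_smul' := fun r x => (freeAtMap X g).map_smulₛₗ r x }
  map_id Y := by
    ext x
    apply ULift.ext
    change Finsupp.mapDomain (fun f => f ≫ 𝟙 Y) (x.down.mapRange (R.map (𝟙 Y)) _) = x.down
    simp only [Category.comp_id]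
    rw [show (fun f : X ⟶ Y => f) = id from rfl, Finsupp.mapDomain_id]
    ext f
    simp
  map_comp {Y Z W} g g' := by
    ext x
    apply ULift.ext
    change Finsupp.mapDomain (fun f => f ≫ g ≫ g') (x.down.mapRange (R.map (g ≫ g')) _) =
      Finsupp.mapDomain (fun f => f ≫ g') (Finsupp.mapRange (R.map g') _
        (Finsupp.mapDomain (fun f => f ≫ g) (x.down.mapRange (R.map g) _)))
    rw [← Finsupp.mapDomain_mapRange _ _ _ _ (fun a b => map_add (R.map g').hom a b),
      ← Finsupp.mapDomain_comp, ← Finsupp.mapRange_comp]
    congr 1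
    · funext f
      simp
    · ext f
      simp
    · simp

/-- The map from the free presheaf of modules given by a section. -/
noncomputable def freeAtDesc {M : PresheafOfModules.{u + 1} R} (X : Cᵒᵖ) (m : M.obj X) :
    freeAt R X ⟶ M where
  app Y := ModuleCat.ofHom
    ((Finsupp.linearCombination (R.obj Y) (fun f : X ⟶ Y => (M.map f m : M.obj Y))).comp
      (ULift.moduleEquiv (R := R.obj Y)).toLinearMap)
  naturality {Y Z} g := by
    ext ⟨x⟩
    change Finsupp.linearCombination (R.obj Z) (fun f : X ⟶ Z => (M.map f m : M.obj Z))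
        (Finsupp.mapDomain (fun f => f ≫ g) (x.mapRange (R.map g) _)) =
      M.map g (Finsupp.linearCombination (R.obj Y) (fun f : X ⟶ Y => (M.map f m : M.obj Y)) x)
    induction x using Finsupp.induction_linear with
    | zero =>
      simp
      rfl
    | add p q hp hq =>
      rw [Finsupp.mapRange_add (fun a b => map_add (R.map g).hom a b), Finsupp.mapDomain_add,
        map_add, map_add, hp, hq, map_add]
      rfl
    | single f r =>
      rw [Finsupp.mapRange_single, Finsupp.mapDomain_single, Finsupp.linearCombination_single,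
        Finsupp.linearCombination_single, PresheafOfModules.map_smul,
        PresheafOfModules.map_comp_apply]
      rfl

theorem freeAtDesc_app {M : PresheafOfModules.{u + 1} R} (X : Cᵒᵖ) (m : M.obj X) :
    (freeAtDesc R X m).app X (ULift.up (Finsupp.single (𝟙 X) 1)) = m := by
  change Finsupp.linearCombination (R.obj X) (fun f : X ⟶ X => (M.map f m : M.obj X))
    (Finsupp.single (𝟙 X) 1) = m
  rw [Finsupp.linearCombination_single, one_smul, PresheafOfModules.map_id]
  rfl

theorem hasSeparator : HasSeparator (PresheafOfModules.{u + 1} R) := by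
  refine ⟨⟨∐ freeAt R, (isSeparator_sigma _).2 fun M N f₁ f₂ h => ?_⟩⟩
  apply PresheafOfModules.hom_ext
  intro X
  ext m
  have e := CategoryTheory.congr_fun (congrArg (fun φ => PresheafOfModules.Hom.app φ X)
    (h _ ⟨X⟩ (freeAtDesc R X m))) (ULift.up (Finsupp.single (𝟙 X) 1))
  change f₁.app X ((freeAtDesc R X m).app X _) = f₂.app X ((freeAtDesc R X m).app X _) at e
  rwa [freeAtDesc_app] at e

theorem enoughInjectives : EnoughInjectives (PresheafOfModules.{u + 1} R) := by
  have := hasSeparator R
  have : (PresheafOfModules.toPresheaf R).ReflectsIsomorphisms := inferInstance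
  have : ReflectsFiniteLimits (PresheafOfModules.toPresheaf R) :=
    ⟨fun J _ _ => reflectsLimitsOfShape_of_reflectsIsomorphisms⟩
  have : AB5OfSize.{u + 1, u + 1} (PresheafOfModules.{u + 1} R) :=
    ⟨fun J _ _ => HasExactColimitsOfShape.domain_of_functor J (PresheafOfModules.toPresheaf R)⟩
  have : IsGrothendieckAbelian.{u + 1} (PresheafOfModules.{u + 1} R) := { }
  infer_instance

end MVFLib
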